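import Cfsg.Agent.H115.Tits.StmtsB
import Cfsg.Agent.H163.PG.Ord
import Cfsg.Agent.H163.PG.Few
import Cfsg.Agent.H592.E4.Perm
import Cfsg.Agent.H679.TwoPsl
import Cfsg.Agent.S0249

/-!
# S3414, case (B): `StPslNum`
-/

set_option autoImplicit false
open Cfsg

namespace Cfsg.Agent.H274.Tits.PN

open Subgroup MulAction Cfsg.Agent.H873.Tits Cfsg.Agent.H115.Tits Cfsg.Agent.H163.PG Finset

universe u v

/-- the valuation of a product, all but one factor of which are prime to `r` -/
theorem fac_prod_le {r : ℕ} {k j : ℕ} (a : ℕ → ℕ) (h0 : ∀ i, a i ≠ 0)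
    (h : ∀ i ∈ range k, i ≠ j → ¬ r ∣ a i) : (∏ i ∈ range k, a i).factorization r ≤ (a j).factorization r := by
  rw [Nat.factorization_prod fun i _ => h0 i, Finsupp.finsetSum_apply]
  by_cases hj : j ∈ range k
  · rw [← Finset.add_sum_erase _ _ hj]
    have : ∑ i ∈ (range k).erase j, (a i).factorization r = 0 := by
      apply Finset.sum_eq_zero
      intro i hi
      rw [Finset.mem_erase] at hi
      exact Nat.factorization_eq_zero_of_not_dvd (h i hi.2 hi.1)
    rw [this, add_zero]
  · have : ∑ i ∈ range k, (a i).factorization r = 0 := by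
      apply Finset.sum_eq_zero
      intro i hi
      exact Nat.factorization_eq_zero_of_not_dvd (h i hi (fun h' => hj (h' ▸ hi)))
    rw [this]
    exact Nat.zero_le _

/-- `v_r (N) ≤ v_r (t)`, `t T₂ ∣ N`: `r ∤ T₂` -/
theorem not_dvd_of_fac_le {r t T₂ N : ℕ} (hr : r.Prime) (hN : N ≠ 0) (h : t * T₂ ∣ N)
    (hv : N.factorization r ≤ t.factorization r) : ¬ r ∣ T₂ := by
  have h0 : t * T₂ ≠ 0 := by
    intro h0
    rw [h0, zero_dvd_iff] at h
    exact hN h
  have ht : t ≠ 0 := left_ne_zero_of_mul h0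
  have hT : T₂ ≠ 0 := right_ne_zero_of_mul h0
  have h1 := (Nat.factorization_le_iff_dvd h0 hN).2 h r
  rw [Nat.factorization_mul ht hT, Finsupp.add_apply] at h1
  intro h2
  have h3 := (hr.dvd_iff_one_le_factorization hT).1 h2
  omega

/-- numerics -/
theorem num_pslB {p f d q t T₂ : ℕ} (hp : p.Prime) (hf : 1 ≤ f) (hq : q = p ^ f) (hd : 3 ≤ d)
    (hs : (t + 1) * (q - 1) = q ^ d - 1)
    (h : t * T₂ ∣ 2 * f * (q ^ (d * (d - 1) / 2) * ∏ i ∈ range (d - 1), (q ^ (i + 2) - 1))) :
    (∃ r : ℕ, r.Prime ∧ r ≠ p ∧ r ∣ t ∧ ¬ r ∣ T₂) ∨ (d = 3 ∧ f = 1 ∧ ∃ k, p + 1 = 2 ^ k) ∨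
      (d = 3 ∧ f = 3 ∧ p = 2) ∨ (d = 7 ∧ f = 1 ∧ p = 2) := by
  have hp2 := hp.two_le
  have hq2 : 2 ≤ q := by
    rw [hq]
    calc 2 ≤ p := hp2
      _ = p ^ 1 := (pow_one p).symm
      _ ≤ p ^ f := Nat.pow_le_pow_right (by omega) hf
  have hpow : ∀ k, 1 ≤ k → 2 ≤ q ^ k := fun k hk =>
    hq2.trans (Nat.le_self_pow (by omega) q)
  have hsq : t * (q - 1) = q * (q ^ (d - 1) - 1) := by
    have h1 : q * q ^ (d - 1) = q ^ d := by rw [← pow_succ', Nat.sub_add_cancel (by omega)]
    have h2 := hpow d (by omega)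
    have h3 := hpow (d - 1) (by omega)
    rw [Nat.mul_sub q, h1, mul_one]
    rw [add_mul, one_mul] at hs
    omega
  have hs0 : t ≠ 0 := by
    rintro rfl
    have h3 := hpow (d - 1) (by omega)
    rw [zero_mul] at hsq
    have : 0 < q * (q ^ (d - 1) - 1) := Nat.mul_pos (by omega) (by omega)
    omega
  have hprod0 : ∀ i, q ^ (i + 2) - 1 ≠ 0 := fun i => by
    have := hpow (i + 2) (by omega)
    omega
  have hN0 : 2 * f * (q ^ (d * (d - 1) / 2) * ∏ i ∈ range (d - 1), (q ^ (i + 2) - 1)) ≠ 0 :=
    mul_ne_zero (by omega) (mul_ne_zero (pow_ne_zero _ (by omega)) (Finset.prod_ne_zero_iff.2 fun i _ => hprod0 i))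
  -- the case with a primitive prime divisor
  by_cases hr : ∃ r, Ppd p (f * (d - 1)) r
  · left
    obtain ⟨r, hr⟩ := hr
    have hfd : 2 ≤ f * (d - 1) := le_trans (by omega) (Nat.le_mul_of_pos_left (d - 1) hf)
    have hrq : ¬ r ∣ q := by
      rw [hq]
      exact fun h' => hr.not_dvd (by omega) (hr.prime.dvd_of_dvd_pow h')
    have hiff : ∀ k, r ∣ q ^ k - 1 ↔ (d - 1) ∣ k := by
      intro k
      rw [hq, ← pow_mul, hr.dvd_iff (by omega)]
      exact Nat.mul_dvd_mul_iff_left hf
    have h1 : r ∣ q ^ (d - 1) - 1 := (hiff _).2 dvd_rfl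
    have hq1 : ¬ r ∣ q - 1 := by
      have := (hiff 1).not.2 (fun h' => by
        have := Nat.le_of_dvd one_pos h'
        omega)
      rwa [pow_one] at this
    have h2 : t.factorization r = (q ^ (d - 1) - 1).factorization r := by
      have h3 : (t * (q - 1)).factorization r = (q * (q ^ (d - 1) - 1)).factorization r := by rw [hsq]
      have h4 := hpow (d - 1) (by omega)
      rw [Nat.factorization_mul hs0 (by omega), Nat.factorization_mul (by omega) (by omega), Finsupp.add_apply,
        Finsupp.add_apply, Nat.factorization_eq_zero_of_not_dvd hq1, Nat.factorization_eq_zero_of_not_dvd hrq] at h3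
      omega
    have hrs : r ∣ t := by
      have h3 : r ∣ t * (q - 1) := by
        rw [hsq]
        exact h1.mul_left _
      exact (hr.prime.dvd_mul.1 h3).resolve_right hq1
    refine ⟨r, hr.prime, hr.ne (by omega), hrs, not_dvd_of_fac_le hr.prime hN0 h ?_⟩
    rw [h2]
    have hr2 : ¬ r ∣ 2 * f := by
      intro h'
      rcases hr.prime.dvd_mul.1 h' with h' | h'
      · exact hr.ne_two hfd ((Nat.prime_dvd_prime_iff_eq hr.prime Nat.prime_two).1 h')
      · exact hr.not_dvd_mul (Nat.le_mul_of_pos_right f (by omega)) hf h'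
    rw [Nat.factorization_mul (by omega)
      (mul_ne_zero (pow_ne_zero _ (by omega)) (Finset.prod_ne_zero_iff.2 fun i _ => hprod0 i)),
      Nat.factorization_mul (pow_ne_zero _ (by omega)) (Finset.prod_ne_zero_iff.2 fun i _ => hprod0 i),
      Finsupp.add_apply, Finsupp.add_apply, Nat.factorization_eq_zero_of_not_dvd hr2,
      Nat.factorization_eq_zero_of_not_dvd (fun h' => hrq (hr.prime.dvd_of_dvd_pow h')), zero_add, zero_add]
    have h5 := fac_prod_le (r := r) (k := d - 1) (j := d - 3) (fun i => q ^ (i + 2) - 1) hprod0 (by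
      intro i hi hij h'
      rw [hiff] at h'
      rw [Finset.mem_range] at hi
      obtain ⟨c, hc⟩ := h'
      have hc0 : c ≠ 0 := by
        rintro rfl
        omega
      have hc1 : c = 1 := by
        by_contra hc1
        have : (d - 1) * 2 ≤ (d - 1) * c := Nat.mul_le_mul_left _ (by omega)
        omega
      subst hc1
      omega)
    rw [show d - 3 + 2 = d - 1 by omega] at h5
    exact h5
  · -- the exceptions
    by_cases h3 : 3 ≤ f * (d - 1)
    · have h6 : p = 2 ∧ f * (d - 1) = 6 := by
        by_contra h6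
        exact hr (Ppd.exists hp2 h3 h6)
      obtain ⟨rfl, h6⟩ := h6
      have hd6 : d - 1 ∣ 6 := Dvd.intro_left _ h6
      have hd7 : d - 1 ≤ 6 := Nat.le_of_dvd (by norm_num) hd6
      have hd4 : d - 1 = 2 ∨ d - 1 = 3 ∨ d - 1 = 6 := by
        have h7 : 2 ≤ d - 1 := by omega
        generalize d - 1 = e at *
        interval_cases e
        · exact Or.inl rfl
        · exact Or.inr (Or.inl rfl)
        · revert hd6; decide
        · revert hd6; decide
        · exact Or.inr (Or.inr rfl)
      rcases hd4 with hd4 | hd4 | hd4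
      · right; right; left
        have hf3 : f = 3 := by rw [hd4] at h6; omega
        exact ⟨by omega, hf3, rfl⟩
      · left
        have hf3 : f = 2 := by rw [hd4] at h6; omega
        have hd' : d = 4 := by omega
        subst hf3 hd' hq
        have hs72 : t = 84 := by norm_num at hsq; omega
        subst hs72
        refine ⟨7, by norm_num, by norm_num, by norm_num, ?_⟩
        refine not_dvd_of_fac_le (by norm_num) hN0 h ?_
        have e1 : 2 * 2 * ((2 ^ 2) ^ (4 * (4 - 1) / 2) * ∏ i ∈ range (4 - 1), ((2 ^ 2) ^ (i + 2) - 1)) =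
            7 ^ 1 * 564019200 := by
          simp only [Finset.prod_range_succ, Finset.prod_range_zero]
          norm_num
        rw [e1, show (84 : ℕ) = 7 ^ 1 * 12 by norm_num, Nat.factorization_mul (by norm_num) (by norm_num),
          Nat.factorization_mul (by norm_num) (by norm_num), Finsupp.add_apply, Finsupp.add_apply,
          Nat.factorization_eq_zero_of_not_dvd (by norm_num : ¬ 7 ∣ 564019200)]
        omega
      · right; right; right
        have hf3 : f = 1 := by rw [hd4] at h6; omega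
        exact ⟨by omega, hf3, rfl⟩
    · right
      left
      have hfd : f * (d - 1) = 2 := by
        have := Nat.le_mul_of_pos_left (d - 1) hf
        omega
      have hd' : d = 3 := by
        have := Nat.le_mul_of_pos_left (d - 1) hf
        omega
      subst hd'
      have hf1 : f = 1 := by omega
      subst hf1
      refine ⟨rfl, rfl, ?_⟩
      by_contra hm
      exact hr (Ppd.exists_two hp2 hm)

/-- the order of `L` -/
theorem card_dvd {Ω : Type v} [Finite Ω] {L : Subgroup (Equiv.Perm Ω)} {p d f : ℕ} (hT : PSLType L p d f) :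
    Nat.card L ∣ 2 * f * ((p ^ f) ^ (d * (d - 1) / 2) * ∏ i ∈ range (d - 1), ((p ^ f) ^ (i + 2) - 1)) := by
  obtain ⟨hd, hf, hp, hn, X, hXL, hXn, hXmin, F, i1, i2, hF, ⟨e⟩⟩ := hT
  have hs : IsSimpleGroup (Matrix.ProjectiveSpecialLinearGroup (Fin d) F) := Cfsg.Agent.S0249.result d hd
  have hnc : ¬ IsMulCommutative (Matrix.ProjectiveSpecialLinearGroup (Fin d) F) :=
    Cfsg.Agent.H679.TwoPsl.not_comm (by omega)
  have hZ : Subgroup.center (Matrix.ProjectiveSpecialLinearGroup (Fin d) F) = ⊥ := by
    rcases (inferInstance : (Subgroup.center (Matrix.ProjectiveSpecialLinearGroup (Fin d) F)).Normal).eq_bot_or_eq_top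
      with h | h
    · exact h
    · exfalso
      apply hnc
      refine ⟨⟨fun x y => ?_⟩⟩
      have h1 : x ∈ Subgroup.center (Matrix.ProjectiveSpecialLinearGroup (Fin d) F) := by rw [h]; exact Subgroup.mem_top _
      exact (Subgroup.mem_center_iff.1 h1 y).symm
  let N := X.subgroupOf L
  have hN : N.Normal := hXn
  let e' : N ≃* Matrix.ProjectiveSpecialLinearGroup (Fin d) F := (Subgroup.subgroupOfEquivOfLe hXL).trans e
  have hC : Subgroup.centralizer (N : Set L) = ⊥ := by
    by_contra hC
    have h1 := hXmin ((Subgroup.centralizer (N : Set L)).map L.subtype) (by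
        rintro _ ⟨x, -, rfl⟩
        exact x.2) (by
        have h2 : ((Subgroup.centralizer (N : Set L)).map L.subtype).subgroupOf L = Subgroup.centralizer (N : Set L) := by
          ext x
          constructor
          · rintro ⟨y, hy, hyx⟩
            have : y = x := L.subtype_injective hyx
            rwa [← this]
          · intro hx
            exact ⟨x, hx, rfl⟩
        rw [h2]
        infer_instance) (by
        intro h2
        exact hC ((Subgroup.map_eq_bot_iff_of_injective _ L.subtype_injective).1 h2))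
    apply hnc
    refine ⟨⟨fun x y => e'.symm.injective ?_⟩⟩
    rw [map_mul, map_mul]
    obtain ⟨z, hz, hzx⟩ := h1 (e'.symm x).2
    have h3 : z = ((e'.symm x : N) : L) := L.subtype_injective hzx
    rw [h3] at hz
    exact Subtype.ext (Subgroup.mem_centralizer_iff.1 hz _ (e'.symm y).2).symm
  have h1 := card_dvd_mul_out N e' hC
  rw [card_out_psl hp hf hF hd hZ] at h1
  have hc := card_psl (F := F) (n := d) (by omega)
  rw [hF] at hc h1
  refine h1.trans (dvd_of_eq ?_)
  rw [← hc]
  ring

/-- **StPslNum** -/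
theorem st_pslnum : StPslNum.{v} := by
  intro Ω _ L p d f a b hL hab hT
  have h1 := card_dvd hT
  obtain ⟨hd, hf, hp, hn, -⟩ := hT
  have hc := Cfsg.Agent.H592.E4.card_twoTr hL hab
  have h2 : 1 < Nat.card Ω := by
    have : Nontrivial Ω := ⟨a, b, hab⟩
    exact Finite.one_lt_card
  obtain ⟨t, ht⟩ : ∃ t, Nat.card Ω = t + 1 := ⟨Nat.card Ω - 1, by omega⟩
  rw [ht, Nat.add_sub_cancel] at hc ⊢
  rw [ht] at hn
  rw [hc] at h1
  exact num_pslB hp hf rfl hd hn ((Dvd.intro_left _ rfl).trans h1)

end Cfsg.Agent.H274.Tits.PN
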