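import Cfsg.Agent.H115.Tits.StmtsC
import Cfsg.Agent.H384.TwoTransRed
import Cfsg.Agent.H499.TTBase
import Cfsg.Agent.H592.E4.Perm

/-!
# S3414, TABSQ: the bridge from the list of the 2-transitive groups
-/

set_option autoImplicit false
open Cfsg

namespace Cfsg.Agent.H274.Tits.Sq

open Subgroup MulAction Cfsg.Agent.H384.TwoTrans Cfsg.Agent.H873.Tits Cfsg.Agent.H115.Tits

universe u v

/-- the socle is contained in every non-trivial normal subgroup -/
theorem socle_le {G : Type u} {Ω : Type v} [Group G] [MulAction G Ω] {T : Subgroup G} (A : AS G Ω T) {M : Subgroup G}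
    (hM : M.Normal) (hM1 : M ≠ ⊥) : T ≤ M := by
  have := A.simple
  have := A.normal
  rcases (inferInstance : (M.subgroupOf T).Normal).eq_bot_or_eq_top with h | h
  · exfalso
    apply hM1
    rw [subgroupOf_eq_bot] at h
    rw [eq_bot_iff, ← A.cent]
    intro m hm
    rw [mem_centralizer_iff]
    intro x hx
    exact (Subgroup.commute_of_normal_of_disjoint T M A.normal hM h.symm x m hx hm)
  · rwa [subgroupOf_eq_top] at h

theorem swap_mem {Ω : Type v} [Fintype Ω] [DecidableEq Ω] {L : Subgroup (Equiv.Perm Ω)} (h : alternatingGroup Ω ≤ L)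
    {a b c : Ω} (hab : a ≠ b) (hbc : b ≠ c) : Equiv.swap a b * Equiv.swap b c ∈ L := by
  apply h
  rw [Equiv.Perm.mem_alternatingGroup, map_mul, Equiv.Perm.sign_swap hab, Equiv.Perm.sign_swap hbc]
  decide

/-- a product of two transpositions -/
theorem altLe_of {Ω : Type v} [Fintype Ω] [i : DecidableEq Ω] {L : Subgroup (Equiv.Perm Ω)} (h : alternatingGroup Ω ≤ L) :
    AltLe L := by
  have hi : i = fun a b => Classical.propDecidable (a = b) := Subsingleton.elim _ _
  subst hi
  unfold AltLe
  intro a b c hab hbc hac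
  exact @swap_mem Ω _ (fun a b => Classical.propDecidable (a = b)) L h a b c hab hbc

/-- **TABSQ** from the rows -/
theorem st_tabsq_of (hK : ∀ {G Ω : Type v} [Group G] [MulAction G Ω] {T : Subgroup G} {t T₂ : ℕ}, DatSq Ω T t T₂ →
    RowSq ↥T t) : StTabSq.{v} := by
  intro Ω _ L a b hL h3 hab hAff hsq
  classical
  have := Fintype.ofFinite Ω
  have h2 : IsMultiplyPretransitive L Ω 2 := by
    rw [is_two_pretransitive_iff]
    intro a b c d hab hcd
    obtain ⟨g, hg, h1, h2⟩ := hL a b c d hab hcd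
    exact ⟨⟨g, hg⟩, h1, h2⟩
  rcases reduction h2 h3 with ⟨N, hN, -, hNc, -, htr, hreg⟩ | ⟨T, A⟩
  · exfalso
    apply hAff
    have hinj := L.subtype_injective
    let e : N ≃* N.map L.subtype := N.equivMapOfInjective _ hinj
    refine ⟨N.map L.subtype, ?_, ?_, ?_, ⟨?_⟩, ?_⟩
    · rintro _ ⟨x, -, rfl⟩
      exact x.2
    · have h1 : (N.map L.subtype).subgroupOf L = N := by
        ext x
        constructor
        · rintro ⟨y, hy, hyx⟩
          have : y = x := hinj hyx
          rwa [← this]
        · intro hx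
          exact ⟨x, hx, rfl⟩
      rw [h1]
      exact hN
    · exact ⟨⟨fun x y => e.symm.injective (by rw [map_mul, map_mul, hNc.is_comm.comm])⟩⟩
    · intro x y
      obtain ⟨n, hn, h⟩ := htr x y
      exact ⟨⟨n, ⟨n, hn, rfl⟩⟩, h⟩
    · intro x
      rw [eq_bot_iff]
      rintro ⟨_, n, hn, rfl⟩ hnx
      rw [mem_bot]
      have h1 := hreg x n hn hnx
      apply Subtype.ext
      change (n : Equiv.Perm Ω) = 1
      rw [h1]
      rfl
  have hc := Cfsg.Agent.H592.E4.card_twoTr hL hab
  obtain ⟨t, ht⟩ : ∃ t, Nat.card Ω = t + 1 := ⟨Nat.card Ω - 1, by omega⟩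
  have D : DatSq Ω T t (Nat.card ↥(Stb L a ⊓ Stb L b)) := by
    refine ⟨A, ht, ?_, by omega, ?_⟩
    · rw [hc, ht, Nat.add_sub_cancel, mul_assoc]
    · rwa [ht, Nat.add_sub_cancel] at hsq
  rcases hK D with h | ⟨p, d, f, hd, hf, hp, hcd, F, i1, i2, hF, ⟨e⟩⟩
  · left
    rw [← ht] at h
    have h1 := Cfsg.Agent.H499.TT.alt_le_range A h
    apply altLe_of
    refine h1.trans ?_
    rintro _ ⟨x, rfl⟩
    exact x.2
  · right
    refine ⟨p, d, f, hd, hf, hp, by rw [ht]; exact hcd, T.map L.subtype, ?_, ?_, ?_, F, i1, i2, hF, ⟨?_⟩⟩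
    · rintro _ ⟨x, -, rfl⟩
      exact x.2
    · have h1 : (T.map L.subtype).subgroupOf L = T := by
        ext x
        constructor
        · rintro ⟨y, hy, hyx⟩
          have : y = x := L.subtype_injective hyx
          rwa [← this]
        · intro hx
          exact ⟨x, hx, rfl⟩
      rw [h1]
      exact A.normal
    · intro M hML hM hM1
      have h1 := socle_le A hM (by
        intro h
        rw [subgroupOf_eq_bot, disjoint_iff, inf_eq_left.2 hML] at h
        exact hM1 h)
      rintro _ ⟨x, hx, rfl⟩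
      exact h1 hx
    · exact (T.equivMapOfInjective _ L.subtype_injective).symm.trans e

end Cfsg.Agent.H274.Tits.Sq
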