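import Cfsg.Agent.H274.Tits.SqRows
import Cfsg.Agent.H274.Tits.TabSqCore
import Cfsg.Agent.H523.KA.RowSp
import Cfsg.Agent.H164.TabSq.Rows

/-!
# S3414, TABSQ: the dispatch over the list of the 2-transitive groups
-/

set_option autoImplicit false
open Cfsg

namespace Cfsg.Agent.H274.Tits.Sq

open Cfsg.Agent.H384.TwoTrans Cfsg.Agent.H115.Tits Cfsg.Agent.H164.TabSq

universe u v

variable {G : Type u} {Ω : Type v} [Group G] [MulAction G Ω] {T : Subgroup G} {t T₂ : ℕ}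

/-- **the rows** -/
theorem rowSq (D : DatSq Ω T t T₂) (hK : Known2 ↥T (Nat.card Ω)) : RowSq ↥T t := by
  have hΩ := D.hΩ
  obtain ⟨N, hN⟩ : ∃ N, N = Nat.card Ω := ⟨_, rfl⟩
  rw [← hN] at hK hΩ
  cases hK with
  | psl F d _ hd hd2 e hn =>
    obtain ⟨e⟩ := e
    rw [hΩ] at hn
    exact row_psl D F hd hd2 e hn
  | sp F m _ hF hm e hn =>
    obtain ⟨e⟩ := e
    rw [hΩ] at hn
    exact (Cfsg.Agent.H523.KA.RowSp.row_sp D hF hm e hn).elim
  | psu F q _ hq hF e hn =>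
    obtain ⟨e⟩ := e
    rw [hΩ] at hn
    exact (row_psu D F hq hF e hn).elim
  | sz F m _ hm hF e hn =>
    obtain ⟨e⟩ := e
    rw [hΩ] at hn
    exact (row_sz D F hm hF e hn).elim
  | ree K m _ hm hK e hn =>
    obtain ⟨e⟩ := e
    rw [hΩ] at hn
    exact (row_ree D K hm hK e hn).elim
  | alt _ hn e =>
    obtain ⟨e⟩ := e
    exact row_alt D hn e hΩ.symm
  | psl2_8 F hF e =>
    obtain ⟨e⟩ := e
    exact (row_psl2_8 D hF e hΩ.symm).elim
  | psl2_9 F hF e =>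
    obtain ⟨e⟩ := e
    exact row_psl2_9 D hF e hΩ.symm
  | psl2_11 F hF e =>
    obtain ⟨e⟩ := e
    exact (row_psl2_11 D hF e hΩ.symm).elim
  | psl4_2 F hF e =>
    obtain ⟨e⟩ := e
    exact row_psl4_2 D hF e hΩ.symm
  | a7 e =>
    obtain ⟨e⟩ := e
    exact (row_a7 D e hΩ.symm).elim
  | m11 h => exact (row_m11 D h hΩ.symm).elim
  | m11' h => exact (row_m11' D h hΩ.symm).elim
  | m12 h => exact (row_m12 D h hΩ.symm).elim
  | m22 h => exact (row_m22 D h hΩ.symm).elim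
  | m23 h => exact (row_m23 D h hΩ.symm).elim
  | m24 h => exact (row_m24 D h hΩ.symm).elim
  | hs h => exact (row_hs D h hΩ.symm).elim
  | co3 h => exact (row_co3 D h hΩ.symm).elim

/-- TABSQ from the list -/
theorem st_tabsq_of_known (hK : ∀ {G Ω : Type v} [Group G] [MulAction G Ω] {T : Subgroup G}, AS G Ω T →
    Known2 ↥T (Nat.card Ω)) : StTabSq.{v} :=
  st_tabsq_of fun D => rowSq D (hK D.A)

end Cfsg.Agent.H274.Tits.Sq
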