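import Cfsg.Agent.H274.Tits.RowB

/-!
# S3414, case (B): numerical lemmas for the rows of rank one
-/

set_option autoImplicit false

namespace Cfsg.Agent.H274.Tits



theorem fac_le {p U e T₂ : ℕ} (hU : ¬ p ∣ U) (he : e ≠ 0) (h : T₂ ∣ U * e) :
    T₂.factorization p ≤ e.factorization p := by
  have hU0 : U ≠ 0 := by
    rintro rfl
    exact hU (dvd_zero p)
  have h0 : T₂ ≠ 0 := by
    rintro rfl
    exact (mul_ne_zero hU0 he) (zero_dvd_iff.1 h)
  have h1 := (Nat.factorization_le_iff_dvd h0 (mul_ne_zero hU0 he)).2 h p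
  rw [Nat.factorization_mul hU0 he, Finsupp.add_apply, Nat.factorization_eq_zero_of_not_dvd hU, zero_add] at h1
  exact h1

theorem pow_fac_le (p : ℕ) {e : ℕ} (he : e ≠ 0) : p ^ e.factorization p ≤ e := Nat.ordProj_le p he

theorem even_sq (r : ℕ) {a g : ℕ} (h : a = g ^ 2) : Even (a.factorization r) := by
  rw [h, Nat.factorization_pow]
  exact ⟨g.factorization r, by simp [two_mul]⟩

/-- `n = 6`: the parity of `v_r (s t)` -/
theorem NumB.even6 {n s t T₂ : ℕ} (N : NumB n s t T₂) (h6 : n = 6) (r : ℕ) :
    Even (s.factorization r + t.factorization r) := by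
  obtain ⟨g, hg⟩ := N.sq6 h6
  have h1 := even_sq r hg
  have hs := N.s2
  have ht := N.t2
  rwa [Nat.factorization_mul (by omega) (by omega), Finsupp.add_apply] at h1

theorem NumB.even8 {n s t T₂ : ℕ} (N : NumB n s t T₂) (h8 : n = 8) (r : ℕ) :
    Even ((2 : ℕ).factorization r + (s.factorization r + t.factorization r)) := by
  obtain ⟨g, hg⟩ := N.sq8 h8
  have h1 := even_sq r hg
  have hs := N.s2
  have ht := N.t2
  rwa [Nat.factorization_mul (by norm_num) (Nat.mul_ne_zero (by omega) (by omega)), Finsupp.add_apply,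
    Nat.factorization_mul (by omega) (by omega), Finsupp.add_apply] at h1

theorem fac_two_odd {r : ℕ} (hr : r.Prime) (h2 : r ≠ 2) : (2 : ℕ).factorization r = 0 :=
  Nat.factorization_eq_zero_of_not_dvd fun h => h2 ((Nat.prime_dvd_prime_iff_eq hr Nat.prime_two).1 h)

theorem fac_two_two : (2 : ℕ).factorization 2 = 1 := Nat.prime_two.factorization_self

theorem fac_pow {p : ℕ} (hp : p.Prime) (a : ℕ) : (p ^ a).factorization p = a := by
  rw [hp.factorization_pow, Finsupp.single_eq_same]

/-- `PSL₂(q)`, `t = q ≥ 5` -/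
theorem num_psl2B {n s t T₂ p f : ℕ} (N : NumB n s t T₂) (hp : p.Prime) (hf : 1 ≤ f) (ht : t = p ^ f) (h5 : 5 ≤ t)
    (h : T₂ ∣ (t - 1) * f) : Chn n s t T₂ p := by
  have hp2 := hp.two_le
  have hU : ¬ p ∣ t - 1 := by
    intro h1
    have h2 : p ∣ t := by rw [ht]; exact dvd_pow_self p (by omega)
    have h3 := (Nat.dvd_sub_iff_right (by omega) h2).1 h1
    exact hp.one_lt.ne' (Nat.dvd_one.1 h3)
  have h1 := fac_le hU (by omega) h
  have h2 := pow_fac_le p (show f ≠ 0 by omega)
  have h3 : t.factorization p = f := by rw [ht]; exact fac_pow hp f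
  refine ⟨hp, ?_⟩
  rw [h3]
  obtain ⟨v, hv⟩ : ∃ v, v = f.factorization p := ⟨_, rfl⟩
  rw [← hv] at h1 h2
  obtain ⟨w, hw⟩ : ∃ w, w = s.factorization p := ⟨_, rfl⟩
  rw [← hw]
  have hvlt : v < p ^ v := Nat.lt_pow_self (by omega)
  have h2v : 2 ^ v ≤ p ^ v := Nat.pow_le_pow_left hp2 v
  rcases N.hn with rfl | rfl | rfl
  · norm_num
    omega
  · -- `n = 6`
    norm_num
    by_cases hc : 2 * v < f
    · omega
    -- `f ≤ 2 v`, so `2 ^ v ≤ 2 v`
    have hv3 : v ≤ 2 := by
      by_contra hv3
      obtain ⟨j, rfl⟩ := Nat.exists_eq_add_of_le (show 3 ≤ v by omega)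
      have h4 : j < 2 ^ j := Nat.lt_pow_self (by omega)
      have h5 : 2 ^ (3 + j) = 8 * 2 ^ j := by rw [pow_add]; norm_num
      omega
    have hv0 : v ≠ 0 := by
      rintro rfl
      omega
    have hv' : v = 1 ∨ v = 2 := by omega
    rcases hv' with rfl | rfl
    · exfalso
      rw [pow_one] at h2
      have h4 : p = 2 := by omega
      have h6 : f = 2 := by omega
      subst h4 h6
      omega
    · have h4 : p < 3 := by
        by_contra h4
        have : 3 ^ 2 ≤ p ^ 2 := Nat.pow_le_pow_left (by omega) 2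
        omega
      have h4' : p = 2 := by omega
      subst h4'
      have h6 : f = 4 := by omega
      subst h6
      have hw0 : w ≠ 0 := by
        intro hw0
        have hs60 : s ∣ 60 := by
          refine N.dvd.trans (h.trans ?_)
          rw [ht]; norm_num
        have hs2 : ¬ 2 ∣ s := by
          intro hd
          have h7 := (Nat.prime_two.dvd_iff_one_le_factorization (show s ≠ 0 by have := N.s2; omega)).1 hd
          omega
        have hs15 : s ∣ 15 := by
          have h7 : s.Coprime 4 := by
            have : s.Coprime 2 := ((Nat.Prime.coprime_iff_not_dvd Nat.prime_two).2 hs2).symm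
            exact this.pow_right 2
          exact h7.dvd_of_dvd_mul_left (show s ∣ 4 * 15 from hs60)
        obtain ⟨g, hg⟩ := N.sq6 rfl
        have hsle := Nat.le_of_dvd (by norm_num) hs15
        have hs2' := N.s2
        rw [ht] at hg
        have hgle : g ≤ 15 := by
          by_contra hgl
          have : 16 ^ 2 ≤ g ^ 2 := Nat.pow_le_pow_left (by omega) 2
          omega
        have : s = 3 ∨ s = 5 ∨ s = 15 := by
          interval_cases s <;> revert hs15 <;> decide
        rcases this with rfl | rfl | rfl <;> interval_cases g <;> revert hg <;> decide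
      omega
  · -- `n = 8`
    norm_num
    have hev := N.even8 rfl p
    rw [h3, ← hw] at hev
    by_cases hv0 : v = 0
    · subst hv0
      omega
    by_cases hpp : p = 2
    · subst hpp
      rw [fac_two_two] at hev
      have hf2 : 2 ∣ f := by
        have h4 : (f.factorization 2) ≠ 0 := by omega
        by_contra h5
        exact h4 (Nat.factorization_eq_zero_of_not_dvd h5)
      have hw1 : 1 ≤ w := by
        by_contra hw1
        have hw0 : w = 0 := by omega
        rw [hw0] at hev
        obtain ⟨c, hc⟩ := hev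
        omega
      have h7 : 3 * v < 2 ^ v + 3 := by
        obtain ⟨j, rfl⟩ := Nat.exists_eq_add_of_le (show 1 ≤ v by omega)
        have h4 : j < 2 ^ j := Nat.lt_pow_self (by omega)
        have h5 : 2 ^ (1 + j) = 2 * 2 ^ j := by rw [pow_add]; norm_num
        rw [h5]
        rcases Nat.lt_or_ge j 3 with hj | hj
        · interval_cases j <;> norm_num
        · obtain ⟨i, rfl⟩ := Nat.exists_eq_add_of_le hj
          have h8 : i < 2 ^ i := Nat.lt_pow_self (by omega)
          have h9 : 2 ^ (3 + i) = 8 * 2 ^ i := by rw [pow_add]; norm_num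
          rw [h9]
          omega
      omega
    · have hp3 : 3 ≤ p := by omega
      rw [fac_two_odd hp hpp] at hev
      by_cases hv1 : v = 1
      · subst hv1
        rw [pow_one] at h2
        by_cases h33 : f = 3
        · subst h33
          have hw1 : 1 ≤ w := by
            by_contra hw1
            have hw0 : w = 0 := by omega
            rw [hw0] at hev
            obtain ⟨c, hc⟩ := hev
            omega
          omega
        · omega
      · have h7 : 3 * v < 3 ^ v := by
          obtain ⟨j, rfl⟩ := Nat.exists_eq_add_of_le (show 2 ≤ v by omega)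
          have h4 : j < 3 ^ j := Nat.lt_pow_self (by omega)
          have h5 : 3 ^ (2 + j) = 9 * 3 ^ j := by rw [pow_add]; norm_num
          rw [h5]
          omega
        have h8 : 3 ^ v ≤ p ^ v := Nat.pow_le_pow_left hp3 v
        omega

/-- `PSU₃(q)`, `t = q³`, `q ≥ 3` -/
theorem num_psuB {n s t T₂ p f : ℕ} (N : NumB n s t T₂) (hp : p.Prime) (hf : 1 ≤ f) (ht : t = (p ^ f) ^ 3)
    (h3q : 3 ≤ p ^ f) (h : T₂ ∣ ((p ^ f) ^ 2 - 1) * (2 * f)) : Chn n s t T₂ p := by
  have hp2 := hp.two_le
  have hU : ¬ p ∣ (p ^ f) ^ 2 - 1 := by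
    intro h1
    have h2 : p ∣ (p ^ f) ^ 2 := dvd_pow (dvd_pow_self p (by omega)) (by norm_num)
    have h3 := (Nat.dvd_sub_iff_right (Nat.one_le_pow _ _ (by omega)) h2).1 h1
    exact hp.one_lt.ne' (Nat.dvd_one.1 h3)
  have h1 := fac_le hU (by omega) h
  have h2 := pow_fac_le p (show f ≠ 0 by omega)
  have h3 : t.factorization p = 3 * f := by rw [ht, ← pow_mul, fac_pow hp, mul_comm]
  refine ⟨hp, ?_⟩
  rw [h3]
  rw [Nat.factorization_mul (by norm_num) (by omega), Finsupp.add_apply] at h1
  obtain ⟨v, hv⟩ : ∃ v, v = f.factorization p := ⟨_, rfl⟩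
  rw [← hv] at h1 h2
  obtain ⟨w, hw⟩ : ∃ w, w = s.factorization p := ⟨_, rfl⟩
  rw [← hw]
  have hvlt : v < p ^ v := Nat.lt_pow_self (by omega)
  by_cases hpp : p = 2
  · subst hpp
    rw [fac_two_two] at h1
    by_cases hlt : 1 + v < f
    · rcases N.hn with rfl | rfl | rfl <;> norm_num <;> omega
    -- `f ≤ v + 1`
    have hf2 : f = 2 ∧ v = 1 := by
      rcases Nat.lt_or_ge v 2 with hv2 | hv2
      · interval_cases v
        · have : f = 1 := by omega
          subst this
          norm_num at h3q
        · omega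
      · obtain ⟨j, rfl⟩ := Nat.exists_eq_add_of_le hv2
        have h8 : j < 2 ^ j := Nat.lt_pow_self (by omega)
        have h9 : 2 ^ (2 + j) = 4 * 2 ^ j := by rw [pow_add]; norm_num
        omega
    obtain ⟨rfl, rfl⟩ := hf2
    rcases N.hn with rfl | rfl | rfl
    · norm_num
      omega
    · norm_num
      omega
    · have hev := N.even8 rfl 2
      rw [h3, ← hw, fac_two_two] at hev
      have hw1 : w ≠ 0 := by
        rintro rfl
        obtain ⟨c, hc⟩ := hev
        omega
      norm_num
      omega
  · rw [fac_two_odd hp hpp, zero_add] at h1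
    rcases N.hn with rfl | rfl | rfl <;> norm_num <;> omega

end Cfsg.Agent.H274.Tits
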