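import Cfsg.Agent.H274.Tits.Num
import Cfsg.Agent.H163.PG.Prim

/-!
# S3414, case (B): numerical lemmas for the row `Sp_2k(2)`
-/

set_option autoImplicit false

namespace Cfsg.Agent.H274.Tits

open Cfsg.Agent.H163.PG Finset

/-- the valuation of a product, all but one factor of which are prime to `r` -/
theorem fac_prod_le {r : ℕ} {k j : ℕ} (a : ℕ → ℕ) (h0 : ∀ i, a i ≠ 0)
    (h : ∀ i ∈ range k, i ≠ j → ¬ r ∣ a i) : (∏ i ∈ range k, a i).factorization r ≤ (a j).factorization r := by
  rw [Nat.factorization_prod fun i _ => h0 i, Finsupp.finsetSum_apply]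
  by_cases hj : j ∈ range k
  · rw [← Finset.add_sum_erase _ _ hj]
    have : ∑ i ∈ (range k).erase j, (a i).factorization r = 0 := by
      apply Finset.sum_eq_zero
      intro i hi
      rw [Finset.mem_erase] at hi
      exact Nat.factorization_eq_zero_of_not_dvd (h i hi.2 hi.1)
    rw [this, add_zero]
  · have : ∑ i ∈ range k, (a i).factorization r = 0 := by
      apply Finset.sum_eq_zero
      intro i hi
      exact Nat.factorization_eq_zero_of_not_dvd (h i hi (fun h' => hj (h' ▸ hi)))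
    rw [this]
    exact Nat.zero_le _

/-- `v_r (N) ≤ v_r (t)`, `t T₂ ∣ N`: `r ∤ T₂` -/
theorem not_dvd_of_fac_le {r t T₂ N : ℕ} (hr : r.Prime) (hN : N ≠ 0) (h : t * T₂ ∣ N)
    (hv : N.factorization r ≤ t.factorization r) : ¬ r ∣ T₂ := by
  have h0 : t * T₂ ≠ 0 := by
    intro h0
    rw [h0, zero_dvd_iff] at h
    exact hN h
  have ht : t ≠ 0 := left_ne_zero_of_mul h0
  have hT : T₂ ≠ 0 := right_ne_zero_of_mul h0
  have h1 := (Nat.factorization_le_iff_dvd h0 hN).2 h r
  rw [Nat.factorization_mul ht hT, Finsupp.add_apply] at h1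
  intro h2
  have h3 := (hr.dvd_iff_one_le_factorization hT).1 h2
  omega

/-- the order of `Sp_2k(2)` -/
def spOrd (k : ℕ) : ℕ := 2 ^ (k ^ 2) * ∏ i ∈ range k, (2 ^ (2 * (i + 1)) - 1)

theorem spOrd_ne (k : ℕ) : spOrd k ≠ 0 := by
  unfold spOrd
  refine mul_ne_zero (pow_ne_zero _ (by norm_num)) (Finset.prod_ne_zero_iff.2 fun i _ => ?_)
  have : 2 ^ 1 ≤ 2 ^ (2 * (i + 1)) := Nat.pow_le_pow_right (by norm_num) (by omega)
  omega

theorem spOrd_fac {k j r : ℕ} (hk : 3 ≤ k) (hj : k - 1 ≤ j) (hr : Ppd 2 (2 * j) r) :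
    (spOrd k).factorization r ≤ (2 ^ j + 1).factorization r := by
  have hpos : ∀ i, 2 ≤ 2 ^ (2 * (i + 1)) := fun i => by
    calc 2 = 2 ^ 1 := rfl
      _ ≤ 2 ^ (2 * (i + 1)) := Nat.pow_le_pow_right (by norm_num) (by omega)
  have h0 : ∀ i, 2 ^ (2 * (i + 1)) - 1 ≠ 0 := fun i => by
    have := hpos i
    omega
  unfold spOrd
  rw [Nat.factorization_mul (pow_ne_zero _ (by norm_num)) (Finset.prod_ne_zero_iff.2 fun i _ => h0 i),
    Finsupp.add_apply, Nat.factorization_eq_zero_of_not_dvd
      (fun h' => hr.not_dvd (by omega) (hr.prime.dvd_of_dvd_pow h')), zero_add]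
  refine (fac_prod_le (r := r) (k := k) (j := j - 1) (fun i => 2 ^ (2 * (i + 1)) - 1) h0 ?_).trans ?_
  · intro i hi hij h'
    rw [hr.dvd_iff (by norm_num)] at h'
    rw [Finset.mem_range] at hi
    have h2 : j ∣ i + 1 := Nat.dvd_of_mul_dvd_mul_left (by norm_num) h'
    obtain ⟨c, hc⟩ := h2
    have hc0 : c ≠ 0 := by
      rintro rfl
      omega
    have hc1 : c = 1 := by
      by_contra hc1
      have : j * 2 ≤ j * c := Nat.mul_le_mul_left _ (by omega)
      omega
    subst hc1
    omega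
  · have hj1 : j - 1 + 1 = j := by omega
    have e : 2 ^ (2 * j) - 1 = (2 ^ j - 1) * (2 ^ j + 1) := by
      rw [mul_comm 2 j, pow_mul]
      have := Nat.sq_sub_sq (2 ^ j) 1
      rw [one_pow] at this
      rw [this, mul_comm]
    have h1 : 2 ≤ 2 ^ j := by
      calc 2 = 2 ^ 1 := rfl
        _ ≤ 2 ^ j := Nat.pow_le_pow_right (by norm_num) (by omega)
    have h2 : ¬ r ∣ 2 ^ j - 1 := by
      rw [hr.dvd_iff (by norm_num)]
      intro h'
      have := Nat.le_of_dvd (by omega) h'
      omega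
    simp only [hj1]
    rw [e, Nat.factorization_mul (by omega) (by omega), Finsupp.add_apply,
      Nat.factorization_eq_zero_of_not_dvd h2, zero_add]

theorem sp_add (k : ℕ) (hk : 1 ≤ k) {t : ℕ} (h : t + 1 = 2 ^ (k - 1) * (2 ^ k + 1)) :
    t = (2 ^ k - 1) * (2 ^ (k - 1) + 1) := by
  obtain ⟨j, rfl⟩ := Nat.exists_eq_add_of_le' hk
  rw [Nat.add_sub_cancel] at h ⊢
  obtain ⟨u, hu⟩ : ∃ u, 2 ^ j = u + 1 := ⟨2 ^ j - 1, by have := Nat.one_le_two_pow (n := j); omega⟩
  rw [pow_succ, hu] at h ⊢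
  have e : (u + 1) * 2 - 1 = 2 * u + 1 := by omega
  rw [e]
  have e2 : (u + 1) * ((u + 1) * 2 + 1) = (2 * u + 1) * (u + 1 + 1) + 1 := by ring
  omega

theorem sp_sub (k : ℕ) (hk : 1 ≤ k) {t : ℕ} (h : t + 1 = 2 ^ (k - 1) * (2 ^ k - 1)) :
    t = (2 ^ k + 1) * (2 ^ (k - 1) - 1) := by
  obtain ⟨j, rfl⟩ := Nat.exists_eq_add_of_le' hk
  rw [Nat.add_sub_cancel] at h ⊢
  obtain ⟨u, hu⟩ : ∃ u, 2 ^ j = u + 1 := ⟨2 ^ j - 1, by have := Nat.one_le_two_pow (n := j); omega⟩
  rw [pow_succ, hu] at h ⊢
  have e : (u + 1) * 2 - 1 = 2 * u + 1 := by omega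
  have e1 : u + 1 - 1 = u := rfl
  rw [e] at h
  rw [e1]
  have e2 : (u + 1) * (2 * u + 1) = ((u + 1) * 2 + 1) * u + 1 := by ring
  omega

/-- `Sp_2k(2)` -/
theorem num_spB {n s t T₂ k : ℕ} (N : NumB n s t T₂) (hk : 3 ≤ k)
    (ht : t + 1 = 2 ^ (k - 1) * (2 ^ k + 1) ∨ t + 1 = 2 ^ (k - 1) * (2 ^ k - 1))
    (h : (t + 1) * t * T₂ ∣ spOrd k) : (∃ r, Chn n s t T₂ r) ∧ ¬ 2 ∣ t := by
  have h2k : 2 ∣ 2 ^ (k - 1) := dvd_pow_self 2 (by omega)
  have hodd : ¬ 2 ∣ t := by
    have h1 : 2 ∣ t + 1 := by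
      rcases ht with ht | ht <;> rw [ht] <;> exact h2k.mul_right _
    omega
  refine ⟨?_, hodd⟩
  have h1 : t * T₂ ∣ spOrd k := by
    rw [mul_assoc] at h
    exact (Dvd.intro_left _ rfl).trans h
  -- the general argument
  have key : ∀ j, k - 1 ≤ j → ¬ (2 * j = 6) → 2 ^ j + 1 ∣ t → ∃ r, Chn n s t T₂ r := by
    intro j hj h6 hd
    obtain ⟨r, hr⟩ := Ppd.exists (p := 2) (n := 2 * j) le_rfl (by omega) (by omega)
    have ht0 : t ≠ 0 := by have := N.t2; omega
    have h3 : (2 ^ j + 1).factorization r ≤ t.factorization r :=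
      (Nat.factorization_le_iff_dvd (Nat.succ_ne_zero _) ht0).2 hd r
    have h4 := not_dvd_of_fac_le hr.prime (spOrd_ne k) h1 ((spOrd_fac hk hj hr).trans h3)
    have h5 : r ∣ 2 ^ j + 1 := by
      have h6 : r ∣ 2 ^ (2 * j) - 1 := (hr.dvd_iff (by norm_num) _).2 dvd_rfl
      have e : 2 ^ (2 * j) - 1 = (2 ^ j - 1) * (2 ^ j + 1) := by
        rw [mul_comm 2 j, pow_mul]
        have := Nat.sq_sub_sq (2 ^ j) 1
        rw [one_pow] at this
        rw [this, mul_comm]
      rw [e] at h6
      refine (hr.prime.dvd_mul.1 h6).resolve_left ?_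
      rw [hr.dvd_iff (by norm_num)]
      intro h'
      have := Nat.le_of_dvd (by omega) h'
      omega
    exact ⟨r, N.chn hr.prime (h5.trans hd) h4⟩
  rcases ht with ht | ht
  · have ht' := sp_add k (by omega) ht
    by_cases hk4 : k = 4
    · subst hk4
      have ht1 : t = 135 := by norm_num at ht'; exact ht'
      subst ht1
      have hT : T₂ ∣ 2580480 := by
        have e : spOrd 4 = 18360 * 2580480 := by
          unfold spOrd
          simp only [Finset.prod_range_succ, Finset.prod_range_zero]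
          norm_num
        rw [e, show (135 + 1) * 135 * T₂ = 18360 * T₂ by ring] at h
        exact Nat.dvd_of_mul_dvd_mul_left (by norm_num) h
      have h3 : T₂.factorization 3 ≤ 2 := by
        have := fac_le (p := 3) (U := 286720) (e := 3 ^ 2) (by norm_num) (by norm_num) (by norm_num; exact hT)
        rwa [fac_pow Nat.prime_three] at this
      have h5 : T₂.factorization 5 ≤ 1 := by
        have := fac_le (p := 5) (U := 516096) (e := 5 ^ 1) (by norm_num) (by norm_num) (by norm_num; exact hT)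
        rwa [fac_pow Nat.prime_five] at this
      have h135a : (135 : ℕ).factorization 3 = 3 := by
        rw [show (135 : ℕ) = 3 ^ 3 * 5 by norm_num, Nat.factorization_mul (by norm_num) (by norm_num), Finsupp.add_apply,
          fac_pow Nat.prime_three, Nat.factorization_eq_zero_of_not_dvd (by norm_num)]
      have h135b : (135 : ℕ).factorization 5 = 1 := by
        rw [show (135 : ℕ) = 5 ^ 1 * 27 by norm_num, Nat.factorization_mul (by norm_num) (by norm_num), Finsupp.add_apply,
          fac_pow Nat.prime_five, Nat.factorization_eq_zero_of_not_dvd (by norm_num)]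
      rcases N.hn with rfl | rfl | rfl
      · refine ⟨3, Nat.prime_three, ?_⟩
        rw [h135a]
        norm_num
        omega
      · refine ⟨3, Nat.prime_three, ?_⟩
        have hev := N.even6 rfl 3
        rw [h135a] at hev ⊢
        norm_num
        obtain ⟨c, hc⟩ := hev
        omega
      · refine ⟨5, Nat.prime_five, ?_⟩
        have hev := N.even8 rfl 5
        rw [h135b, fac_two_odd Nat.prime_five (by norm_num)] at hev
        rw [h135b]
        norm_num
        obtain ⟨c, hc⟩ := hev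
        omega
    · refine key (k - 1) le_rfl (by omega) ?_
      rw [ht']
      exact Dvd.intro_left _ rfl
  · have ht' := sp_sub k (by omega) ht
    by_cases hk3 : k = 3
    · subst hk3
      have ht1 : t = 27 := by norm_num at ht'; exact ht'
      subst ht1
      have hT : T₂ ∣ 1920 := by
        have e : spOrd 3 = 756 * 1920 := by
          unfold spOrd
          simp only [Finset.prod_range_succ, Finset.prod_range_zero]
          norm_num
        rw [e, show (27 + 1) * 27 * T₂ = 756 * T₂ by ring] at h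
        exact Nat.dvd_of_mul_dvd_mul_left (by norm_num) h
      have h3 : T₂.factorization 3 ≤ 1 := by
        have := fac_le (p := 3) (U := 640) (e := 3 ^ 1) (by norm_num) (by norm_num) (by norm_num; exact hT)
        rwa [fac_pow Nat.prime_three] at this
      have h27 : (27 : ℕ).factorization 3 = 3 := by
        rw [show (27 : ℕ) = 3 ^ 3 by norm_num, fac_pow Nat.prime_three]
      refine ⟨3, Nat.prime_three, ?_⟩
      rcases N.hn with rfl | rfl | rfl
      · rw [h27]
        norm_num
        omega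
      · rw [h27]
        norm_num
        omega
      · have hev := N.even8 rfl 3
        rw [h27, fac_two_odd Nat.prime_three (by norm_num)] at hev
        rw [h27]
        norm_num
        obtain ⟨c, hc⟩ := hev
        omega
    · refine key k (by omega) (by omega) ?_
      rw [ht']
      exact dvd_mul_right _ _

end Cfsg.Agent.H274.Tits
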