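import Cfsg.Agent.H115.Tits.StmtsB
import Cfsg.Agent.H384.TwoTrans
import Cfsg.Agent.H163.PG.Few

/-!
# S3414, case (B): the interface between the bridge (helper164) and the rows (helper164, helper274)

`t = q (tp y)`, `s = q (! tp y)`, `T₂ = T2 y x z`, `G = L y`, `Ω` = the neighbours of `y`, `T` = socle of `L y`.
-/

set_option autoImplicit false

namespace Cfsg.Agent.H274.Tits

open Cfsg.Agent.H384.TwoTrans

universe u v w

/-- the numerical facts at `y` -/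
structure NumB (n s t T₂ : ℕ) : Prop where
  hn : n = 4 ∨ n = 6 ∨ n = 8
  s2 : 2 ≤ s
  t2 : 2 ≤ t
  pos : 0 < T₂
  dvd : s ∣ T₂
  hig48 : n = 4 ∨ n = 8 → t ≤ s ^ 2 ∧ s ≤ t ^ 2
  hig6 : n = 6 → t ≤ s ^ 3 ∧ s ≤ t ^ 3
  fh4 : n = 4 → (s + t) ∣ 2 * s * t * (1 + s) * (1 + t)
  sq6 : n = 6 → ∃ g, s * t = g ^ 2
  sq8 : n = 8 → ∃ h, 2 * (s * t) = h ^ 2

/-- the hypothesis of the chain lemma (`= ChainNum`) -/
def Chn (n s t T₂ r : ℕ) : Prop :=
  r.Prime ∧ (n / 2 - 1) * T₂.factorization r < t.factorization r + (n / 2 - 1) * s.factorization r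

/-- the numerical alternative of `StRowsB` -/
def Fin4 (n s t T₂ : ℕ) : Prop :=
  (∃ r, Chn n s t T₂ r) ∧ (¬ 2 ∣ t ∨ t < 60 ∨ ∃ p k : ℕ, p.Prime ∧ t = p ^ k)

/-- the output of a row -/
def RowOut (T : Type u) [Group T] (n s t T₂ : ℕ) : Prop :=
  2 * Nat.card T = (t + 1).factorial ∨
  (∃ p d f : ℕ, 3 ≤ d ∧ 1 ≤ f ∧ p.Prime ∧ (t + 1) * (p ^ f - 1) = (p ^ f) ^ d - 1 ∧
    ∃ (F : Type) (_ : Field F) (_ : Fintype F), Fintype.card F = p ^ f ∧
      Nonempty (T ≃* Matrix.ProjectiveSpecialLinearGroup (Fin d) F)) ∨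
  Fin4 n s t T₂

/-- the input of a row -/
structure Dat {G : Type u} (Ω : Type v) [Group G] [MulAction G Ω] (T : Subgroup G) (n s t T₂ : ℕ) : Prop where
  A : AS G Ω T
  hΩ : Nat.card Ω = t + 1
  hG : Nat.card G = (t + 1) * t * T₂
  N : NumB n s t T₂

variable {G : Type u} {Ω : Type v} [Group G] [MulAction G Ω] {T : Subgroup G} {n s t T₂ : ℕ}

/-- `|G|` divides `|S| |Out S|` -/
theorem Dat.dvd (D : Dat Ω T n s t T₂) {S : Type w} [Group S] (e : ↥T ≃* S) :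
    (t + 1) * t * T₂ ∣ Nat.card S * Nat.card (Cfsg.Out S) := by
  have := D.A.finG
  have := D.A.normal
  rw [← D.hG]
  exact Cfsg.Agent.H163.PG.card_dvd_mul_out T e D.A.cent

/-- a prime `r` dividing `t` and not `T₂` -/
theorem NumB.chn (N : NumB n s t T₂) {r : ℕ} (hr : r.Prime) (h1 : r ∣ t) (h2 : ¬ r ∣ T₂) : Chn n s t T₂ r := by
  refine ⟨hr, ?_⟩
  rw [Nat.factorization_eq_zero_of_not_dvd h2, mul_zero]
  have h3 : t ≠ 0 := by have := N.t2; omega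
  have h4 := (hr.dvd_iff_one_le_factorization h3).1 h1
  omega

end Cfsg.Agent.H274.Tits
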