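import Cfsg.Agent.H115.Tits.StmtsC
import Cfsg.Agent.H115.Tits.TabNum
import Cfsg.Agent.H163.PG.Ord
import Cfsg.Agent.S1163
import Cfsg.Agent.S1069
import Cfsg.Agent.S2126
import Cfsg.Agent.S2127

/-!
# S3414, TABSQ: the rows `PSL_d(q)`, `PSU₃(q)`, `Sz(q)`, `²G₂(q)`
-/

set_option autoImplicit false
open Cfsg

namespace Cfsg.Agent.H274.Tits.Sq

open Cfsg.Agent.H384.TwoTrans Cfsg.Agent.H163.PG Cfsg.Agent.H115.Tits

universe u v w

variable {G : Type u} {Ω : Type v} [Group G] [MulAction G Ω] {T : Subgroup G} {t T₂ : ℕ}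

theorem center_eq_bot (D : DatSq Ω T t T₂) {S : Type w} [Group S] (e : ↥T ≃* S) : Subgroup.center S = ⊥ := by
  have := D.A.simple
  have hS : IsSimpleGroup S := e.symm.isSimpleGroup
  rcases (inferInstance : (Subgroup.center S).Normal).eq_bot_or_eq_top with h | h
  · exact h
  · exfalso
    apply D.A.nonab
    refine ⟨⟨fun x y => e.injective ?_⟩⟩
    rw [map_mul, map_mul]
    have h1 : e x ∈ Subgroup.center S := by rw [h]; exact Subgroup.mem_top _
    exact (Subgroup.mem_center_iff.1 h1 (e y)).symm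

theorem exists_pf (F : Type) [Field F] [Fintype F] : ∃ p f : ℕ, p.Prime ∧ 1 ≤ f ∧ Fintype.card F = p ^ f := by
  obtain ⟨r, hchar⟩ := CharP.exists F
  obtain ⟨⟨f, hf0⟩, hr, hf⟩ := FiniteField.card F r
  exact ⟨r, f, hr, hf0, hf⟩

/-- **`PSL_d(q)`** -/
theorem row_psl (D : DatSq Ω T t T₂) (F : Type) [Field F] [Fintype F] {d : ℕ} (hd : 2 ≤ d)
    (hd2 : d = 2 → 4 ≤ Fintype.card F) (e : T ≃* Matrix.ProjectiveSpecialLinearGroup (Fin d) F)
    (hn : (t + 1) * (Fintype.card F - 1) = Fintype.card F ^ d - 1) : RowSq T t := by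
  obtain ⟨p, f, hp, hf, hF⟩ := exists_pf F
  have ht2 := D.t2
  by_cases h3 : 3 ≤ d
  · right
    refine ⟨p, d, f, h3, hf, hp, ?_, F, inferInstance, inferInstance, hF, ⟨e⟩⟩
    rw [← hF]
    exact hn
  have hd' : d = 2 := by omega
  subst hd'
  have h4 := hd2 rfl
  exfalso
  have htq : t = Fintype.card F := by
    have h5 : Fintype.card F ^ 2 - 1 = (Fintype.card F + 1) * (Fintype.card F - 1) := by
      have := Nat.sq_sub_sq (Fintype.card F) 1
      rwa [one_pow] at this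
    rw [h5] at hn
    have h6 := Nat.eq_of_mul_eq_mul_right (by omega) hn
    omega
  have hdvd := D.dvd e
  have hZ := center_eq_bot D e
  have hc := card_psl (F := F) (n := 2) le_rfl
  rw [show 2 * (2 - 1) / 2 = 1 by norm_num, pow_one, show 2 - 1 = 1 by norm_num, Finset.prod_range_one, zero_add] at hc
  rw [card_out_psl_two hp hf hF h4 hZ] at hdvd
  rw [← htq] at hc hdvd
  refine num_psl2 hp.two_le hf (htq.trans hF) ?_
  rw [← hc]
  have e1 : Nat.gcd 2 (t - 1) * Nat.card (Matrix.ProjectiveSpecialLinearGroup (Fin 2) F) * f =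
      Nat.card (Matrix.ProjectiveSpecialLinearGroup (Fin 2) F) * (f * Nat.gcd 2 (t - 1)) := by ring
  rw [e1]
  exact hdvd

/-- **`PSU₃(q)`** -/
theorem row_psu (D : DatSq Ω T t T₂) (F : Type) [Field F] [Fintype F] {q : ℕ} (hq : 3 ≤ q)
    (hF : Fintype.card F = q ^ 2) (e : T ≃* Cfsg.PSU 3 F q) (hn : t + 1 = q ^ 3 + 1) : False := by
  obtain ⟨p, g, hp, hg, hFp⟩ := exists_pf F
  have ht2 := D.t2
  obtain ⟨f, hf, hqf⟩ : ∃ f, 1 ≤ f ∧ q = p ^ f := by
    have h1 : q ∣ p ^ g := by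
      rw [← hFp, hF]
      exact dvd_pow_self q (by norm_num)
    obtain ⟨f, -, hf⟩ := (Nat.dvd_prime_pow hp).1 h1
    refine ⟨f, ?_, hf⟩
    by_contra h2
    have : f = 0 := by omega
    subst this
    rw [pow_zero] at hf
    omega
  have htq : t = q ^ 3 := by omega
  have hdvd := D.dvd e
  have hZ := center_eq_bot D e
  have hc := S0280.result hF 3 (by norm_num)
  rw [card_out_psu hp hf hqf hF le_rfl (by omega) hZ] at hdvd
  have hprod : ∏ i ∈ Finset.range 3, (if Even i then q ^ (i + 1) + 1 else q ^ (i + 1) - 1) =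
      (q + 1) * (q ^ 2 - 1) * (q ^ 3 + 1) := by
    rw [Finset.prod_range_succ, Finset.prod_range_succ, Finset.prod_range_one]
    rw [if_pos (by decide), if_neg (by decide), if_pos (by decide)]
    norm_num
  rw [hprod, show 3 * (3 - 1) / 2 = 3 by norm_num] at hc
  have hc' : Nat.gcd 3 (q + 1) * Nat.card (Cfsg.PSU 3 F q) = q ^ 3 * ((q ^ 2 - 1) * (q ^ 3 + 1)) := by
    apply Nat.eq_of_mul_eq_mul_left (show 0 < q + 1 by omega)
    calc (q + 1) * (Nat.gcd 3 (q + 1) * Nat.card (Cfsg.PSU 3 F q)) =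
        Nat.gcd 3 (q + 1) * ((q + 1) * Nat.card (Cfsg.PSU 3 F q)) := by ring
      _ = _ := by rw [hc]; ring
  refine num_psu hp.two_le hf hqf ?_
  rw [← hc', ← htq]
  have e1 : Nat.gcd 3 (q + 1) * Nat.card (Cfsg.PSU 3 F q) * (2 * f) =
      Nat.card (Cfsg.PSU 3 F q) * (Nat.gcd 3 (q + 1) * (2 * f)) := by ring
  rw [e1]
  exact hdvd

/-- **`Sz(q)`** -/
theorem row_sz (D : DatSq Ω T t T₂) (F : Type) [Field F] [Fintype F] {m : ℕ} (hm : 1 ≤ m)
    (hF : Fintype.card F = 2 ^ (2 * m + 1)) (e : T ≃* ↥(Cfsg.Lie.Sz F (2 ^ (m + 1))))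
    (hn : t + 1 = Fintype.card F ^ 2 + 1) : False := by
  have hdvd := D.dvd e
  rw [(S1163.result hm hF).1, S2126.result hm hF] at hdvd
  have htq : t = (2 ^ (2 * m + 1)) ^ 2 := by rw [← hF]; omega
  rw [htq] at hdvd
  exact num_sz hm rfl hdvd

/-- **`²G₂(q)`** -/
theorem row_ree (D : DatSq Ω T t T₂) (K : Type) [Field K] [Fintype K] {m : ℕ} (hm : 1 ≤ m)
    (hK : Fintype.card K = 3 ^ (2 * m + 1)) (e : T ≃* ↥(Cfsg.Lie.twistedG2 K (3 ^ m)))
    (hn : t + 1 = Fintype.card K ^ 3 + 1) : False := by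
  have hdvd := D.dvd e
  rw [S1069.result hK, S2127.result hm hK] at hdvd
  have htq : t = (3 ^ (2 * m + 1)) ^ 3 := by rw [← hK]; omega
  rw [htq] at hdvd
  exact num_ree hm rfl hdvd

end Cfsg.Agent.H274.Tits.Sq
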