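import Cfsg.Agent.H274.Tits.TabSqRows
import Cfsg.Agent.H384.TwoTransMain
import Cfsg.Agent.S0000

/-!
# S3414, TABSQ
-/

set_option autoImplicit false

namespace Cfsg.Agent.H274.Tits.Sq

open Cfsg.Agent.H115.Tits

universe v

/-- **TABSQ** -/
theorem st_tabsq : StTabSq.{v} :=
  st_tabsq_of_known fun A => Cfsg.Agent.H384.TwoTransMain.main (fun _ _ _ _ => Cfsg.Agent.S0000.result) A

end Cfsg.Agent.H274.Tits.Sq
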